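import Groth.Agent.KFlatLib.Scheme.Tensor
import Groth.Agent.KFlatLib.Scheme.Flatness
import Groth.Agent.InvX.GenLocus
import Groth.Prelude.Def_DCoh4

/-!
# The dual of a module is a direct summand of the dual of its double dual
-/

set_option autoImplicit false
set_option linter.style.haveILetI false
set_option linter.unusedSectionVars false
set_option backward.isDefEq.respectTransparency false
set_option backward.isDefEq.respectTransparency.types false

universe u

open CategoryTheory CategoryTheory.Limits AlgebraicGeometry Opposite MonoidalCategory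

noncomputable section

namespace Groth.Agent.NonPureLib

variable {X : Scheme.{u}}

/-- The symmetry of the tensor product. -/
def swap (A B : X.Modules) : (DCoh.tensorBi.obj A).obj B ≅ (DCoh.tensorBi.obj B).obj A :=
  ((KFlatLib.tensorBiFlipIso X).app B).app A

theorem swap_nat_left {A A' : X.Modules} (f : A ⟶ A') (B : X.Modules) :
    (DCoh.tensorBi.map f).app B ≫ (swap A' B).hom = (swap A B).hom ≫ (DCoh.tensorBi.obj B).map f :=
  ((KFlatLib.tensorBiFlipIso X).app B).hom.naturality f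

theorem swap_swap (A B : X.Modules) : (swap A B).hom ≫ (swap B A).hom = 𝟙 _ := by
  show DCoh.shP.map (β_ (DCoh.toP.obj A) (DCoh.toP.obj B)).hom ≫
    DCoh.shP.map (β_ (DCoh.toP.obj B) (DCoh.toP.obj A)).hom = _
  rw [← Functor.map_comp, SymmetricCategory.symmetry, CategoryTheory.Functor.map_id]
  rfl

/-- `Hom(DD F, O) ⟶ Hom(F, O)` splits the biduality map of `Hom(F, O)`. -/
theorem exists_retract (F O : X.Modules) [DCoh.HasSheafHom F]
    [DCoh.HasSheafHom ((DCoh.sheafHom F).obj O)]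
    [DCoh.HasSheafHom ((DCoh.sheafHom ((DCoh.sheafHom F).obj O)).obj O)] :
    ∃ (a : (DCoh.sheafHom F).obj O ⟶ (DCoh.sheafHom ((DCoh.sheafHom ((DCoh.sheafHom F).obj O)).obj O)).obj O)
      (b : (DCoh.sheafHom ((DCoh.sheafHom ((DCoh.sheafHom F).obj O)).obj O)).obj O ⟶ (DCoh.sheafHom F).obj O),
      a ≫ b = 𝟙 _ := by
  set D := (DCoh.sheafHom F).obj O with hD
  set DD := (DCoh.sheafHom D).obj O with hDD
  let εF : (DCoh.tensorBi.obj F).obj D ⟶ O := (DCoh.sheafHomAdj F).counit.app O
  let εD : (DCoh.tensorBi.obj D).obj DD ⟶ O := (DCoh.sheafHomAdj D).counit.app O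
  let εDD := (DCoh.sheafHomAdj DD).counit.app O
  let ηF : F ⟶ DD := (DCoh.sheafHomAdj D).homEquiv F O ((swap D F).hom ≫ εF)
  let ηD : D ⟶ (DCoh.sheafHom DD).obj O := (DCoh.sheafHomAdj DD).homEquiv D O ((swap DD D).hom ≫ εD)
  let h : (DCoh.sheafHom DD).obj O ⟶ D :=
    (DCoh.sheafHomAdj F).homEquiv _ O ((DCoh.tensorBi.map ηF).app _ ≫ εDD)
  refine ⟨ηD, h, ((DCoh.sheafHomAdj F).homEquiv D O).symm.injective ?_⟩
  have hηD : (DCoh.tensorBi.obj DD).map ηD ≫ εDD = (swap DD D).hom ≫ εD :=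
    ((DCoh.sheafHomAdj DD).homEquiv_counit D O ηD).symm.trans (Equiv.symm_apply_apply _ _)
  have hηF : (DCoh.tensorBi.obj D).map ηF ≫ εD = (swap D F).hom ≫ εF :=
    ((DCoh.sheafHomAdj D).homEquiv_counit F O ηF).symm.trans (Equiv.symm_apply_apply _ _)
  rw [Adjunction.homEquiv_naturality_left_symm, Equiv.symm_apply_apply, Adjunction.homEquiv_counit,
    CategoryTheory.Functor.map_id, Category.id_comp]
  calc (DCoh.tensorBi.obj F).map ηD ≫ (DCoh.tensorBi.map ηF).app _ ≫ εDD
      = (DCoh.tensorBi.map ηF).app D ≫ (DCoh.tensorBi.obj DD).map ηD ≫ εDD := by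
        rw [← Category.assoc, (DCoh.tensorBi.map ηF).naturality ηD, Category.assoc]
    _ = (swap F D).hom ≫ (swap D F).hom ≫ εF := by
        rw [hηD, ← Category.assoc, swap_nat_left ηF D, Category.assoc, hηF]
    _ = εF := by rw [← Category.assoc, swap_swap, Category.id_comp]

/-- `O ⊗ -` is the identity. -/
def tensorUnitNatIso (X : Scheme.{u}) : DCoh.tensorBi.obj (Coh.structureModule X) ≅ 𝟭 X.Modules :=
  ((KFlatLib.tensorBiFlipIso X).app (Coh.structureModule X)).symm ≪≫ KFlatLib.tensorStructureIso X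

theorem hom_ext_structure {M : X.Modules} {s t : Coh.structureModule X ⟶ M} (h : InvX.one s = InvX.one t) :
    s = t := by
  refine Scheme.Modules.hom_ext _ _ fun U => ?_
  ext r
  refine (InvX.app_eq_smul s (show Γ(X, U) from r)).trans ?_
  rw [h]
  exact (InvX.app_eq_smul t (show Γ(X, U) from r)).symm

theorem end_structure_idem [IsIntegral X] (p : Coh.structureModule X ⟶ Coh.structureModule X) (hp : p ≫ p = p) :
    p = 0 ∨ p = 𝟙 _ := by
  let r : Γ(X, ⊤) := InvX.one p
  have hr : r * r = r := by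
    have h1 : InvX.one (p ≫ p) = p.app ⊤ (InvX.one p) := rfl
    rw [hp] at h1
    have h2 := InvX.app_eq_smul p (show Γ(X, ⊤) from r)
    rw [AModX.res_self] at h2
    exact (h1.trans h2).symm
  haveI : Nonempty ((⊤ : X.Opens) : Scheme.{u}) := ⟨⟨genericPoint X, trivial⟩⟩
  rcases eq_or_ne r 0 with h0 | h0
  · exact Or.inl (hom_ext_structure (h0.trans rfl))
  · exact Or.inr (hom_ext_structure ((mul_left_cancel₀ h0 (hr.trans (mul_one r).symm)).trans rfl))

/-- If the double dual of `F` is the structure sheaf, then `F` has a nonzero map to it. -/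
theorem exists_hom_ne_zero [IsIntegral X] (F : X.Modules) [DCoh.HasSheafHom F]
    [DCoh.HasSheafHom ((DCoh.sheafHom F).obj (Coh.structureModule X))]
    (hdet : Nonempty ((DCoh.sheafHom ((DCoh.sheafHom F).obj (Coh.structureModule X))).obj
      (Coh.structureModule X) ≅ Coh.structureModule X)) :
    ∃ φ : F ⟶ Coh.structureModule X, φ ≠ 0 := by
  obtain ⟨e⟩ := hdet
  set O := Coh.structureModule X with hO
  set D := (DCoh.sheafHom F).obj O with hD
  set DD := (DCoh.sheafHom D).obj O with hDD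
  let τ : DCoh.tensorBi.obj DD ≅ 𝟭 X.Modules := DCoh.tensorBi.mapIso e ≪≫ tensorUnitNatIso X
  haveI hDDh : DCoh.HasSheafHom DD := (Adjunction.id.ofNatIsoLeft τ.symm).isLeftAdjoint
  let u : (DCoh.sheafHom DD).obj O ≅ O :=
    ((DCoh.sheafHomAdj DD).rightAdjointUniq (Adjunction.id.ofNatIsoLeft τ.symm)).app O
  obtain ⟨a, b, hab⟩ := exists_retract F O
  have hidem : (u.inv ≫ b ≫ a ≫ u.hom) ≫ (u.inv ≫ b ≫ a ≫ u.hom) = u.inv ≫ b ≫ a ≫ u.hom := by
    simp only [Category.assoc, Iso.hom_inv_id_assoc]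
    rw [reassoc_of% hab]
  have hO1 : 𝟙 O ≠ 0 := fun h => by
    haveI : Nonempty ((⊤ : X.Opens) : Scheme.{u}) := ⟨⟨genericPoint X, trivial⟩⟩
    have h1 := congrArg InvX.one h
    exact one_ne_zero (α := Γ(X, ⊤)) h1
  have hDne : 𝟙 D ≠ 0 := fun h => by
    -- if `D = 0` then `Hom(D, O) = 0`
    refine hO1 ?_
    have h0 : e.inv = 0 := ((DCoh.sheafHomAdj D).homEquiv O O).symm.injective ((by
      have hz : IsZero D := (IsZero.iff_id_eq_zero D).2 h
      have hz' : IsZero ((DCoh.tensorBi.obj D).obj O) :=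
        IsZero.of_iso ((DCoh.tensorBi.obj O).map_isZero hz) (swap D O)
      exact hz'.eq_of_src _ _))
    rw [← e.inv_hom_id, h0, zero_comp]
  have hs : u.inv ≫ b ≠ 0 := fun h => by
    rcases end_structure_idem _ hidem with h0 | h0
    · refine hDne ?_
      have h2 := congrArg (fun f => a ≫ u.hom ≫ f ≫ u.inv ≫ b) h0
      simp only [Category.assoc, Iso.hom_inv_id_assoc, zero_comp, comp_zero] at h2
      rw [reassoc_of% hab, hab] at h2
      exact h2
    · exact hO1 (by rw [← h0, reassoc_of% h, zero_comp])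
  let c : (DCoh.tensorBi.obj F).obj O ≅ F := swap F O ≪≫ (tensorUnitNatIso X).app F
  refine ⟨c.inv ≫ ((DCoh.sheafHomAdj F).homEquiv O O).symm (u.inv ≫ b), fun h => hs ?_⟩
  have h1 : ((DCoh.sheafHomAdj F).homEquiv O O).symm (u.inv ≫ b) = 0 :=
    (cancel_epi c.inv).1 (h.trans comp_zero.symm)
  have h2 := congrArg ((DCoh.sheafHomAdj F).homEquiv O O) h1
  rw [Equiv.apply_symm_apply, Adjunction.homEquiv_unit, Functor.map_zero, comp_zero] at h2
  exact h2

end Groth.Agent.NonPureLib
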