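import Groth.Agent.SurfInt.Curve
import Groth.Agent.CDiv6.Basic
import Groth.Agent.Refl70.Sheaf
import Groth.Agent.HilbPoly.Sub

/-!
# A nonzero map from an invertible module to a torsion-free module of rank one on a curve
-/

set_option autoImplicit false
set_option linter.style.haveILetI false
set_option linter.unusedSectionVars false
set_option backward.isDefEq.respectTransparency false
set_option backward.isDefEq.respectTransparency.types false

universe u

open CategoryTheory CategoryTheory.Limits AlgebraicGeometry TopologicalSpace Opposite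

noncomputable section

namespace Groth.Agent.NonPureLib

variable {K : Type u} [Field K] {C : Scheme.{u}} [C.Over (Spec (CommRingCat.of K))]
  [IsProper (C ↘ Spec (CommRingCat.of K))] [IsIntegral C]

/-- `χ` does not decrease along a nonzero map from an invertible to a torsion-free module of rank one. -/
theorem euler_le_of_hom (hdim : topologicalKrullDim C ≤ 1) {M G : C.Modules} (hM : PicF.IsInvertible M)
    (hG : Coh.IsCoh G) (hGt : TorSh.IsTorsionFree G)
    (hGr : Module.finrank (C.presheaf.stalk (genericPoint C)) (G.presheaf.stalk (genericPoint C)) = 1)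
    (f : M ⟶ G) (hf : f ≠ 0) : Curv2.euler K C M ≤ Curv2.euler K C G := by
  haveI := CurveCohLib.isNoetherian_of_proper (k := K) (X := C)
  have hMc := AmpleVan.isCoh_invertible hM
  have hMt : TorSh.IsTorsionFree M := fun x => by
    obtain ⟨b⟩ := CurveTensor.exists_basis_stalk (InvEnd.isFinLocFreeOfRank_one hM) x
    exact Function.Injective.moduleIsTorsionFree b.equivFun.toLinearMap b.equivFun.injective
      (fun a m => map_smul _ a m)
  set η := genericPoint C
  obtain ⟨b⟩ := CurveTensor.exists_basis_stalk (InvEnd.isFinLocFreeOfRank_one hM) η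
  let g : M.presheaf.stalk η →ₗ[C.presheaf.stalk η] G.presheaf.stalk η := ((DerSch.stalkFunctor C η).map f).hom
  have hgerm : ∀ {U : C.Opens} (hη : η ∈ U) (m : Γ(M, U)),
      g (M.presheaf.germ U η hη m) = G.presheaf.germ U η hη (f.app U m) :=
    fun hη m => TopCat.Presheaf.stalkFunctor_map_germ_apply _ η hη ((Scheme.Modules.toPresheaf C).map f) m
  have hrepr : ∀ v, v = b.repr v 0 • b 0 := fun v => by
    conv_lhs => rw [← b.sum_repr v]
    simp
  have hv : g (b 0) ≠ 0 := by
    intro h
    refine hf (QCoh.hom_ext_app fun U m => ?_)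
    refine Refl70.eq_zero_of_germ_generic hG.1 hGt _ fun hη => ?_
    rw [← hgerm hη m, hrepr (M.presheaf.germ U η hη m), map_smul, h, smul_zero]
  letI : Field (C.presheaf.stalk η) := (inferInstance : Field C.functionField)
  have hinj : Function.Injective g := (injective_iff_map_eq_zero _).2 fun v hv0 => by
    rw [hrepr v, map_smul] at hv0
    rw [hrepr v, (smul_eq_zero.1 hv0).resolve_right hv, zero_smul]
  have hsurj : Function.Surjective g := fun w => by
    obtain ⟨a, ha⟩ := exists_smul_eq_of_finrank_eq_one hGr hv w
    exact ⟨a • b 0, (map_smul g a (b 0)).trans ha⟩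
  haveI : Mono f := QCoh.mono_of_app_injective _ fun U => (injective_iff_map_eq_zero _).2 fun m hm =>
    Refl70.eq_zero_of_germ_generic hMc.1 hMt m fun hη => hinj (by rw [hgerm hη, hm, map_zero, map_zero])
  have hQ := QCoh.isCoh_cokernel hMc.1 hG f
  have hS : (ShortComplex.mk f (cokernel.π f) (cokernel.condition f)).ShortExact :=
    { exact := ShortComplex.exact_cokernel f, mono_f := ‹_›, epi_g := inferInstance }
  have hηQ : η ∉ CohB1.support (cokernel f) := by
    show ¬ ¬ Subsingleton ((cokernel f).presheaf.stalk η)
    refine not_not.2 ⟨fun p q => ?_⟩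
    haveI : Epi ((DerSch.stalkFunctor C η).map (cokernel.π f)) := (hS.map_of_exact (DerSch.stalkFunctor C η)).epi_g
    have hs := (ModuleCat.epi_iff_surjective ((DerSch.stalkFunctor C η).map (cokernel.π f))).1 inferInstance
    have hz : ∀ p : (cokernel f).presheaf.stalk η, p = 0 := fun p => by
      obtain ⟨w, rfl⟩ := hs p
      obtain ⟨v, rfl⟩ := hsurj w
      show ((DerSch.stalkFunctor C η).map f ≫ (DerSch.stalkFunctor C η).map (cokernel.π f)) v = 0
      rw [← Functor.map_comp, cokernel.condition, Functor.map_zero]
      rfl
    exact (hz p).trans (hz q).symm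
  have h0 : ∀ x ∈ CohB1.support (cokernel f), IsClosed ({x} : Set C) := fun x hx =>
    CDiv6.isClosed_singleton hdim fun h => hηQ (show genericPoint C ∈ _ by rw [← h]; exact hx)
  have hadd := CurveCohLib.euler_additive (k := K) hS hMc hG hQ
  rw [CurveCohLib.euler_eq_finrank_zero (k := K) hQ h0] at hadd
  dsimp only at hadd
  omega

end Groth.Agent.NonPureLib
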