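import Groth.Agent.CycCovGeo.Bridge
import Groth.Agent.OmegaLib.IdealMod
import Groth.Agent.AModX.Res
import Groth.Agent.GrpSchLib.SmoothReduced
import Groth.Agent.S1536
import Groth.Agent.GeomField.Irreducible
import Groth.Agent.QCoh.Sections
import Groth.Agent.QCoh.TensorUnit
import Groth.Prelude.Def_KLin

/-! Endomorphisms of a nonzero ideal sheaf of a smooth proper geometrically irreducible variety are scalars. -/

set_option autoImplicit false
set_option linter.unusedSectionVars false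
set_option linter.style.haveILetI false
set_option backward.isDefEq.respectTransparency false
set_option backward.isDefEq.respectTransparency.types false

universe u

open CategoryTheory CategoryTheory.Limits AlgebraicGeometry TopologicalSpace Opposite

noncomputable section

namespace Groth.Agent.NonPureLib

variable {K : Type u} [Field K] {X : Scheme.{u}} [X.Over (Spec (CommRingCat.of K))]
  [IsIntegral X] [Smooth (X ↘ Spec (CommRingCat.of K))]

/-- Symmetry of the coordinates of an endomorphism of an ideal. -/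
theorem idealSect_app_mul (I : X.IdealSheafData) (φ : ClSub.idealMod I ⟶ ClSub.idealMod I) (U : X.Opens)
    (a b : Γ(ClSub.idealMod I, U)) :
    OmegaSh.idealSect I U (φ.app U a) * OmegaSh.idealSect I U b =
      OmegaSh.idealSect I U a * OmegaSh.idealSect I U (φ.app U b) := by
  have h : OmegaSh.idealSect I U b • a = OmegaSh.idealSect I U a • b :=
    OmegaLib.idealSect_injective I U (by rw [OmegaLib.idealSect_smul, OmegaLib.idealSect_smul, mul_comm])
  have h2 := congrArg (OmegaSh.idealSect I U) (congrArg (φ.app U) h)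
  rw [Scheme.Modules.Hom.app_smul, Scheme.Modules.Hom.app_smul, OmegaLib.idealSect_smul, OmegaLib.idealSect_smul] at h2
  linear_combination h2

/-- A nonzero ideal of an integral scheme is nonzero on every nonempty affine open. -/
theorem ideal_ne_bot {I : X.IdealSheafData} (hI : I ≠ ⊥) (U : X.affineOpens) (hU : (U.1 : Set X).Nonempty) :
    I.ideal U ≠ ⊥ := by
  intro h0
  refine hI (Scheme.IdealSheafData.ext (funext fun V => ?_))
  rw [Scheme.IdealSheafData.ideal_bot, Pi.bot_apply, eq_bot_iff]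
  intro a ha
  rcases isEmpty_or_nonempty ↥(V.1 : X.Opens) with hV | hV
  · exact Ideal.mem_bot.2 (AModX.eq_of_locally (M := Coh.structureModule X) _ _
      fun p hp => (hV.false ⟨p, hp⟩).elim)
  obtain ⟨v, hv⟩ := hV
  have hne : ((U.1 : Set X) ∩ V.1).Nonempty := by
    obtain ⟨x, hx⟩ := hU
    exact ⟨genericPoint X, (genericPoint_specializes x).mem_open U.1.isOpen hx,
      (genericPoint_specializes v).mem_open V.1.isOpen hv⟩
  obtain ⟨w, hwU, hwV⟩ := hne
  obtain ⟨W, hW, hwW, hWUV⟩ := exists_isAffineOpen_mem_and_subset (x := w) (U := U.1 ⊓ V.1) ⟨hwU, hwV⟩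
  have h1 : I.ideal ⟨W, hW⟩ = ⊥ := by
    rw [← I.map_ideal (U := ⟨W, hW⟩) (V := U) (hWUV.trans inf_le_left), h0, Ideal.map_bot]
  have h2 : X.presheaf.map (homOfLE (hWUV.trans inf_le_right : W ≤ V.1)).op a ∈ I.ideal ⟨W, hW⟩ := by
    rw [← I.map_ideal (U := ⟨W, hW⟩) (V := V) (hWUV.trans inf_le_right)]
    exact Ideal.mem_map_of_mem _ ha
  rw [h1, Ideal.mem_bot] at h2
  haveI : Nonempty (W : Scheme.{u}) := ⟨⟨w, hwW⟩⟩
  exact Ideal.mem_bot.2 (map_injective_of_isIntegral X (homOfLE (hWUV.trans inf_le_right : W ≤ V.1))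
    (h2.trans (map_zero _).symm))

include K in
/-- On a nonempty affine open, an endomorphism of a nonzero ideal is multiplication by a unique function. -/
theorem exists_mult {I : X.IdealSheafData} (hI : I ≠ ⊥) (φ : ClSub.idealMod I ⟶ ClSub.idealMod I)
    (U : X.affineOpens) (hU : (U.1 : Set X).Nonempty) :
    ∃ c : Γ(X, U.1), ∀ a, OmegaSh.idealSect I U.1 (φ.app U.1 a) = c * OmegaSh.idealSect I U.1 a := by
  haveI : Nonempty (U.1 : Scheme.{u}) := ⟨⟨_, hU.some_mem⟩⟩
  haveI : IsLocallyNoetherian X := LocallyOfFiniteType.isLocallyNoetherian (X ↘ Spec (CommRingCat.of K))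
  haveI : IsNoetherianRing Γ(X, U.1) := IsLocallyNoetherian.component_noetherian U
  haveI := CycCovGeo.isIntegrallyClosed_sections (X ↘ Spec (CommRingCat.of K)) U.2
  obtain ⟨a₀, ha₀, ha0⟩ := Submodule.exists_mem_ne_zero_of_ne_bot (ideal_ne_bot hI U hU)
  obtain ⟨k₀, hk₀⟩ := OmegaLib.exists_of_mem I U a₀ ha₀
  let F := FractionRing Γ(X, U.1)
  let r : F := algebraMap _ F (OmegaSh.idealSect I U.1 (φ.app U.1 k₀)) / algebraMap _ F a₀
  have hne : algebraMap Γ(X, U.1) F a₀ ≠ 0 := fun h => ha0 (IsFractionRing.injective Γ(X, U.1) F (h.trans (map_zero _).symm))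
  have hr : ∀ a, algebraMap _ F (OmegaSh.idealSect I U.1 (φ.app U.1 a)) = r * algebraMap _ F (OmegaSh.idealSect I U.1 a) := by
    intro a
    have h := congrArg (algebraMap Γ(X, U.1) F) (idealSect_app_mul I φ U.1 k₀ a)
    rw [map_mul, map_mul, hk₀] at h
    rw [div_mul_eq_mul_div, eq_div_iff hne, h]
    ring
  let N : Submodule Γ(X, U.1) F := Submodule.map (Algebra.linearMap Γ(X, U.1) F) (I.ideal U)
  have hint : IsIntegral Γ(X, U.1) r := by
    refine isIntegral_of_smul_mem_submodule N (fun h => ha0 ?_) ((IsNoetherian.noetherian _).map _) r ?_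
    · have : algebraMap Γ(X, U.1) F a₀ ∈ N := ⟨a₀, ha₀, rfl⟩
      rw [h, Submodule.mem_bot] at this
      exact absurd this hne
    · rintro _ ⟨a, ha, rfl⟩
      obtain ⟨k, rfl⟩ := OmegaLib.exists_of_mem I U a ha
      refine ⟨_, OmegaLib.idealSect_mem I U (φ.app U.1 k), ?_⟩
      show algebraMap Γ(X, U.1) F (OmegaSh.idealSect I U.1 (φ.app U.1 k)) =
        r • algebraMap Γ(X, U.1) F (OmegaSh.idealSect I U.1 k)
      rw [smul_eq_mul, hr]
  obtain ⟨c, hc⟩ := IsIntegrallyClosed.algebraMap_eq_of_integral hint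
  exact ⟨c, fun a => IsFractionRing.injective Γ(X, U.1) F (by rw [hr, map_mul, hc])⟩

/-- Multipliers agree on smaller opens. -/
theorem mult_unique {I : X.IdealSheafData} (hI : I ≠ ⊥) (φ : ClSub.idealMod I ⟶ ClSub.idealMod I)
    {U V : X.affineOpens} {c : Γ(X, U.1)} {d : Γ(X, V.1)}
    (hc : ∀ a, OmegaSh.idealSect I U.1 (φ.app U.1 a) = c * OmegaSh.idealSect I U.1 a)
    (hd : ∀ a, OmegaSh.idealSect I V.1 (φ.app V.1 a) = d * OmegaSh.idealSect I V.1 a) (h : V.1 ≤ U.1)
    (hV : (V.1 : Set X).Nonempty) : AModX.resR h c = d := by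
  haveI : Nonempty (V.1 : Scheme.{u}) := ⟨⟨_, hV.some_mem⟩⟩
  obtain ⟨a, ha, ha0⟩ := Submodule.exists_mem_ne_zero_of_ne_bot (ideal_ne_bot hI U ⟨_, h hV.some_mem⟩)
  obtain ⟨k, rfl⟩ := OmegaLib.exists_of_mem I U a ha
  have hne : AModX.resR h (OmegaSh.idealSect I U.1 k) ≠ 0 := fun h0 => ha0 (by
    exact map_injective_of_isIntegral X (homOfLE h) (h0.trans (map_zero _).symm))
  refine mul_right_cancel₀ hne ?_
  have h1 : AModX.resR h (OmegaSh.idealSect I U.1 k) =
      OmegaSh.idealSect I V.1 (AModX.res (ClSub.idealMod I) h k) := (OmegaLib.idealSect_map I h k).symm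
  rw [← map_mul, ← hc, h1, ← hd, AModX.app_res]
  exact (OmegaLib.idealSect_map I h _).symm

variable [IsProper (X ↘ Spec (CommRingCat.of K))] [GeometricallyIrreducible (X ↘ Spec (CommRingCat.of K))]

attribute [local instance] GeomField.globalAlgebra in
theorem exists_toGlobal_eq (r : Γ(X, ⊤)) : ∃ c : K, Coh.toGlobal (X ↘ Spec (CommRingCat.of K)) c = r := by
  haveI := GrpSchLib.geometricallyReduced_of_smooth (X ↘ Spec (CommRingCat.of K))
  haveI : GeometricallyConnected (X ↘ Spec (CommRingCat.of K)) := ⟨fun L _ y P fst snd h => by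
    haveI : IrreducibleSpace P :=
      GeometricallyIrreducible.geometrically_irreducibleSpace (f := X ↘ Spec (CommRingCat.of K)) y fst snd h
    infer_instance⟩
  have h := GeomField.finrank_globalFunctions_eq_one K X
  have h1 : (1 : Γ(X, ⊤)) ≠ 0 := one_ne_zero
  obtain ⟨c, hc⟩ := exists_smul_eq_of_finrank_eq_one h h1 r
  exact ⟨c, by rw [← hc, Algebra.smul_def, mul_one]; rfl⟩

/-- **Endomorphisms of nonzero ideal sheaves are scalars.** -/
theorem exists_smul_id {I : X.IdealSheafData} (hI : I ≠ ⊥) (φ : ClSub.idealMod I ⟶ ClSub.idealMod I) :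
    ∃ c : K, φ = c • 𝟙 (ClSub.idealMod I) := by
  choose U hU hxU using fun x : X =>
    (exists_isAffineOpen_mem_and_subset (x := x) (U := (⊤ : X.Opens)) trivial)
  choose c hc using fun x : X => exists_mult (K := K) hI φ ⟨U x, hU x⟩ ⟨x, (hxU x).1⟩
  obtain ⟨s, hs, -⟩ := AModX.existsUnique_glue (M := Coh.structureModule X) (V := ⊤) U (fun _ => le_top)
    (fun x _ => ⟨x, (hxU x).1⟩) c fun x y => by
    refine AModX.eq_of_locally _ _ fun p hp => ?_
    obtain ⟨W, hW, hpW, hWU⟩ := exists_isAffineOpen_mem_and_subset (x := p) (U := U x ⊓ U y) hp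
    refine ⟨W, hWU, hpW, ?_⟩
    obtain ⟨d, hd⟩ := exists_mult (K := K) hI φ ⟨W, hW⟩ ⟨p, hpW⟩
    have e1 := mult_unique hI φ (hc x) hd (hWU.trans inf_le_left) ⟨p, hpW⟩
    have e2 := mult_unique hI φ (hc y) hd (hWU.trans inf_le_right) ⟨p, hpW⟩
    rw [AModX.res_res, AModX.res_res]
    exact e1.trans e2.symm
  obtain ⟨k, hk⟩ := exists_toGlobal_eq (K := K) (show Γ(X, ⊤) from s)
  refine ⟨k, QCoh.hom_ext_app fun V a => ?_⟩
  rw [KLin.smul_app_apply]
  refine AModX.eq_of_locally _ _ fun p hp => ?_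
  obtain ⟨W, hW, hpW, hWV⟩ := exists_isAffineOpen_mem_and_subset (x := p) (U := V ⊓ U p) ⟨hp, (hxU p).1⟩
  refine ⟨W, hWV.trans inf_le_left, hpW, OmegaLib.idealSect_injective I W ?_⟩
  obtain ⟨d, hd⟩ := exists_mult (K := K) hI φ ⟨W, hW⟩ ⟨p, hpW⟩
  have e1 := mult_unique hI φ (hc p) hd (hWV.trans inf_le_right) ⟨p, hpW⟩
  rw [← AModX.app_res, hd, AModX.res_smul, OmegaLib.idealSect_smul]
  congr 1
  rw [← e1]
  have e2 : AModX.resR (le_top : U p ≤ ⊤) (show Γ(X, ⊤) from s) = c p := hs p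
  rw [← e2, ← hk]
  exact (AModX.resR_resR _ _ _).trans (AModX.resR_resR _ _ _).symm

end Groth.Agent.NonPureLib

namespace Groth.Agent.NonPureLib

variable {X : Scheme.{u}} [IsIntegral X]

/-- A nonzero ideal sheaf is a nonzero module. -/
theorem id_ne_zero {I : X.IdealSheafData} (hI : I ≠ ⊥) : 𝟙 (ClSub.idealMod I) ≠ 0 := by
  intro h
  obtain ⟨U, hU, hxU, -⟩ := exists_isAffineOpen_mem_and_subset (x := genericPoint X) (U := (⊤ : X.Opens)) trivial
  obtain ⟨a, ha, ha0⟩ := Submodule.exists_mem_ne_zero_of_ne_bot (ideal_ne_bot hI ⟨U, hU⟩ ⟨_, hxU⟩)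
  obtain ⟨k, rfl⟩ := OmegaLib.exists_of_mem I ⟨U, hU⟩ a ha
  refine ha0 ?_
  have h1 : k = 0 := congrArg (fun f : ClSub.idealMod I ⟶ ClSub.idealMod I => f.app U k) h
  rw [h1, OmegaSh.idealSect_apply, map_zero]
  rfl

end Groth.Agent.NonPureLib
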