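import Groth.Agent.NonPureLib.EndIdeal
import Groth.Agent.SurfInt.Restrict
import Groth.Agent.QCoh.AnnIdeal
import Groth.Agent.HilbPoly.Sub
import Groth.Agent.GeomField.GlobalFunctions
import Groth.Agent.Pic13Lib.EulerIff
import Groth.Prelude.Def_Mor2

/-!
# Subsheaves of the structure sheaf as ideals; finite subschemes and their Hilbert polynomials
-/

set_option autoImplicit false
set_option linter.style.haveILetI false
set_option linter.unusedSectionVars false
set_option backward.isDefEq.respectTransparency false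
set_option backward.isDefEq.respectTransparency.types false

universe u

open CategoryTheory CategoryTheory.Limits AlgebraicGeometry TopologicalSpace Opposite

noncomputable section

namespace Groth.Agent.NonPureLib

variable {X : Scheme.{u}} [IsLocallyNoetherian X]

/-- A coherent subsheaf of the structure sheaf is an ideal sheaf. -/
theorem exists_idealMod_iso {M : X.Modules} (hM : Coh.IsCoh M) (φ : M ⟶ Coh.structureModule X) [Mono φ] :
    ∃ (I : X.IdealSheafData) (e : M ≅ ClSub.idealMod I), e.hom ≫ ClSub.idealModι I = φ := by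
  have hO := QCoh.isCoh_structureModule' (X := X)
  have hQ := QCoh.isCoh_cokernel hM.1 hO φ
  let I := QCoh.annIdeal hQ.1 hQ.2
  have hS : (ShortComplex.mk φ (cokernel.π φ) (cokernel.condition φ)).ShortExact :=
    { exact := ShortComplex.exact_cokernel φ, mono_f := ‹_›, epi_g := inferInstance }
  have himg : ∀ (U : X.affineOpens) (a : Γ(X, U.1)), a ∈ I.ideal U ↔ ∃ m, φ.app U.1 m = a := by
    intro U a
    constructor
    · intro ha
      have h1 := Module.mem_annihilator.1 (show a ∈ Module.annihilator Γ(X, U.1) Γ(cokernel φ, U.1) from ha)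
        ((cokernel.π φ).app U.1 (show Γ(Coh.structureModule X, U.1) from (1 : Γ(X, U.1))))
      rw [← Scheme.Modules.Hom.app_smul] at h1
      obtain ⟨m, hm⟩ := QCoh.exists_app_f_eq hS U.1 _ h1
      exact ⟨m, hm.trans (mul_one a)⟩
    · rintro ⟨m, rfl⟩
      show _ ∈ Module.annihilator Γ(X, U.1) Γ(cokernel φ, U.1)
      rw [Module.mem_annihilator]
      intro y
      obtain ⟨b, rfl⟩ := QCoh.app_surjective_of_epi hO.1 hQ.1 (cokernel.π φ) U.2 y
      rw [← Scheme.Modules.Hom.app_smul]
      have h2 : (show Γ(Coh.structureModule X, U.1) from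
          (show Γ(X, U.1) from φ.app U.1 m) • b) = φ.app U.1 ((show Γ(X, U.1) from b) • m) := by
        rw [Scheme.Modules.Hom.app_smul]
        exact mul_comm (show Γ(X, U.1) from φ.app U.1 m) (show Γ(X, U.1) from b)
      refine (congrArg ((cokernel.π φ).app U.1) h2).trans ?_
      exact congr($(cokernel.condition φ).app U.1 _)
  have hzero : φ ≫ ClSub.toSubscheme I = 0 := QCoh.hom_ext_app fun V m => by
    refine AModX.eq_of_locally _ _ fun p hp => ?_
    obtain ⟨W, hW, hpW, hWV⟩ := exists_isAffineOpen_mem_and_subset hp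
    refine ⟨W, hWV, hpW, ?_⟩
    rw [← AModX.app_res, ← AModX.app_res]
    show I.subschemeι.app W (show Γ(X, W) from φ.app W (AModX.res M hWV m)) = 0
    rw [← RingHom.mem_ker, I.ker_subschemeι_app ⟨W, hW⟩]
    exact (himg ⟨W, hW⟩ _).2 ⟨_, rfl⟩
  let e : M ⟶ ClSub.idealMod I := kernel.lift _ φ hzero
  have he : e ≫ ClSub.idealModι I = φ := kernel.lift_ι _ _ _
  haveI : Mono e := by
    haveI : Mono (e ≫ ClSub.idealModι I) := he.symm ▸ inferInstanceAs (Mono φ)
    exact mono_of_mono e (ClSub.idealModι I)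
  haveI : Epi e := by
    have hI := SurfInt.isCoh_idealMod I
    refine Preadditive.epi_of_isZero_cokernel e (QCoh.isZero_of_app_eq_zero (QCoh.isQCoh_cokernel hM.1 hI.1 e)
      fun U y => ?_)
    obtain ⟨b, rfl⟩ := QCoh.app_surjective_of_epi hI.1 (QCoh.isQCoh_cokernel hM.1 hI.1 e) (cokernel.π e) U.2 y
    obtain ⟨m, hm⟩ := (himg U _).1 (OmegaLib.idealSect_mem I U b)
    have hb : e.app U.1 m = b := OmegaLib.idealSect_injective I U.1 (by
      rw [← hm]
      exact congr($(he).app U.1 m))
    rw [← hb]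
    exact congr($(cokernel.condition e).app U.1 m)
  haveI : IsIso e := isIso_of_mono_of_epi e
  exact ⟨I, asIso e, he⟩

variable {K : Type u} [Field K]

attribute [local instance] GeomField.globalAlgebra in
/-- A scheme finite locally free of degree `ℓ` over a field has Euler characteristic `ℓ`. -/
theorem euler_structure_of_deg {Z : Scheme.{u}} [Z.Over (Spec (CommRingCat.of K))] {ℓ : ℕ}
    (hZ : Mor2.IsFinLocFreeOfDeg ℓ (Z ↘ Spec (CommRingCat.of K))) :
    Curv2.euler K Z (Coh.structureModule Z) = ℓ := by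
  set f := Z ↘ Spec (CommRingCat.of K) with hf
  haveI : IsFinite f := hZ.1.1
  haveI : Flat f := hZ.1.2.1
  haveI : IsAffine Z := isAffine_of_isAffineHom f
  haveI : IsLocallyNoetherian Z := LocallyOfFiniteType.isLocallyNoetherian f
  haveI : Finite Z := Set.finite_univ_iff.1
    ((Scheme.Hom.finite_preimage_singleton f (IsLocalRing.closedPoint K)).subset fun z _ =>
      show f z = _ from Subsingleton.elim _ _)
  haveI : JacobsonSpace Z := LocallyOfFiniteType.jacobsonSpace f
  have h0 : ∀ x ∈ CohB1.support (Coh.structureModule Z), IsClosed ({x} : Set Z) := fun x _ => isClosed_discrete _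
  rw [CurveCohLib.euler_eq_finrank_zero (k := K) QCoh.isCoh_structureModule' h0, GeomField.finrank_HH_zero]
  congr 1
  obtain ⟨φ, hφ⟩ := Spec.map_surjective (Z.isoSpec.inv ≫ f)
  have hfin : φ.hom.Finite := by rw [← IsFinite.SpecMap_iff, hφ]; infer_instance
  have hflat : φ.hom.Flat := by rw [← Flat.SpecMap_iff, hφ]; infer_instance
  have h1 := hZ.2 (IsLocalRing.closedPoint K)
  rw [← Scheme.Hom.finrank_comp_left_of_isIso Z.isoSpec.inv, ← hφ,
    Scheme.Hom.finrank_SpecMap_eq_finrank hfin hflat] at h1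
  rw [← h1]
  letI : Algebra K Γ(Z, ⊤) := φ.hom.toAlgebra
  have halg : φ.hom = (GeomField.globalAlgebra K Z).algebraMap := by
    have := congrArg (fun g => (Scheme.Hom.appTop g)) hφ
    have hg : φ = (Scheme.ΓSpecIso (CommRingCat.of K)).inv ≫ f.appTop := by
      apply Spec.map_injective
      rw [hφ, Spec.map_comp]
      rw [← Scheme.isoSpec_inv_naturality, Scheme.isoSpec_Spec_inv]
    rw [hg]
    rfl
  show _ = φ.hom.finrank (IsLocalRing.closedPoint K)
  rw [halg]
  letI := GeomField.globalAlgebra K Z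
  rw [RingHom.finrank_algebraMap, Module.rankAtStalk_eq_finrank_of_free]
  rfl

section Hilb

variable {Y : Scheme.{u}} [Y.Over (Spec (CommRingCat.of K))] [IsProper (Y ↘ Spec (CommRingCat.of K))]

/-- The ideal of a finite subscheme of degree `ℓ` has Hilbert polynomial `P - ℓ`. -/
theorem exists_hilbPoly_idealMod {M : Y.Modules} (hMi : PicF.IsInvertible M) (J : Y.IdealSheafData) {ℓ : ℕ}
    (hJ : Mor2.IsFinLocFreeOfDeg ℓ (J.subschemeι ≫ (Y ↘ Spec (CommRingCat.of K)))) :
    ∃ P : Polynomial ℚ, ShStab.IsHilbPoly K Y M (Coh.structureModule Y) P ∧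
      ShStab.IsHilbPoly K Y M (ClSub.idealMod J) (P - Polynomial.C (ℓ : ℚ)) := by
  haveI := CurveCohLib.isNoetherian_of_proper (k := K) (X := Y)
  letI : J.subscheme.Over (Spec (CommRingCat.of K)) := ⟨J.subschemeι ≫ (Y ↘ Spec (CommRingCat.of K))⟩
  obtain ⟨D, hD⟩ := Pic13Lib.exists_dim_le (Y ↘ Spec (CommRingCat.of K))
  have hO := QCoh.isCoh_structureModule' (X := Y)
  have hQ := ParShLib.isCoh_quotMod J
  have hI := SurfInt.isCoh_idealMod J
  obtain ⟨P, hP, -, -⟩ := HilbPoly.exists_hilb (k := K) hMi hO ((topologicalKrullDim_subspace_le _ _).trans hD)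
  obtain ⟨P₁, hP₁, -, -⟩ := HilbPoly.exists_hilb (k := K) hMi hI ((topologicalKrullDim_subspace_le _ _).trans hD)
  have hfin : IsFinite (J.subschemeι ≫ (Y ↘ Spec (CommRingCat.of K))) := hJ.1.1
  haveI : Finite J.subscheme := by
    have := IsFinite.finite_preimage_singleton (J.subschemeι ≫ (Y ↘ Spec (CommRingCat.of K))) (IsLocalRing.closedPoint K)
    exact Set.finite_univ_iff.1 (this.subset fun z _ => Subsingleton.elim _ _)
  have hdim : topologicalKrullDim ↥(CohB1.support (ClSub.quotMod J)) ≤ ((0 : ℕ) : WithBot ℕ∞) := by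
    refine le_trans (H23.TopDim.dim_le_dim_of_subset (QCoh.support_push_subset J.subschemeι QCoh.isQCoh_structureModule)) ?_
    refine le_of_eq_of_le (IsHomeomorph.topologicalKrullDim_eq _
      J.subschemeι.isClosedEmbedding.isEmbedding.toHomeomorph.isHomeomorph).symm ?_
    haveI : JacobsonSpace J.subscheme :=
      LocallyOfFiniteType.jacobsonSpace (J.subschemeι ≫ (Y ↘ Spec (CommRingCat.of K)))
    exact topologicalKrullDim_zero_of_discreteTopology _
  obtain ⟨P₃, hP₃, hdeg, -⟩ := HilbPoly.exists_hilb (k := K) hMi hQ hdim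
  have hP₃ℓ : P₃ = Polynomial.C (ℓ : ℚ) := by
    have h := hP₃ 0
    have e : ShStab.twist Y M (ClSub.quotMod J) 0 ≅ ClSub.quotMod J := AmpleVan.twUnit.app (ClSub.quotMod J)
    rw [SurfInt.euler_congr K e, SurfInt.euler_push K J.subschemeι rfl QCoh.isQCoh_structureModule,
      euler_structure_of_deg (K := K) (Z := J.subscheme) hJ] at h
    rw [Nat.cast_zero, Polynomial.eq_C_of_natDegree_le_zero hdeg, Polynomial.eval_C] at h
    rw [Polynomial.eq_C_of_natDegree_le_zero hdeg, ← h]
    simp
  have hadd := HilbPoly.hilb_add (k := K) hMi (SurfInt.idealSeq_shortExact J) hI hO hQ hP₁ hP₃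
  have := HilbPoly.isHilbPoly_unique hadd hP
  refine ⟨P, hP, ?_⟩
  rwa [← this, hP₃ℓ, add_sub_cancel_right]

end Hilb

end Groth.Agent.NonPureLib
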