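import Groth.Agent.NonPureLib.EndIdeal
import Groth.Agent.Lib.CurveTensor
import Groth.Agent.VarBase.Section
import Groth.Agent.Lib.InvEnd
import Groth.Prelude.Def_TorSh

/-!
# Ideal sheaves on integral schemes: rank one, torsion-free; morphisms to the structure sheaf
-/

set_option autoImplicit false
set_option linter.style.haveILetI false
set_option linter.unusedSectionVars false
set_option backward.isDefEq.respectTransparency false
set_option backward.isDefEq.respectTransparency.types false

universe u

open CategoryTheory CategoryTheory.Limits AlgebraicGeometry TopologicalSpace Opposite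

noncomputable section

namespace Groth.Agent.NonPureLib

variable {X : Scheme.{u}} [IsIntegral X]

theorem isTorsionFree_idealMod (I : X.IdealSheafData) : TorSh.IsTorsionFree (ClSub.idealMod I) := fun x => by
  obtain ⟨b⟩ := CurveTensor.exists_basis_stalk
    (InvEnd.isFinLocFreeOfRank_one (InvX.isInvertible_structureModule (X := X))) x
  haveI : Mono (ClSub.idealModι I) := inferInstanceAs (Mono (kernel.ι _))
  let g : (ClSub.idealMod I).presheaf.stalk x →ₗ[X.presheaf.stalk x] (Coh.structureModule X).presheaf.stalk x :=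
    ((DerSch.stalkFunctor X x).map (ClSub.idealModι I)).hom
  have hinj : Function.Injective g :=
    (ModuleCat.mono_iff_injective ((DerSch.stalkFunctor X x).map (ClSub.idealModι I))).1 inferInstance
  exact Function.Injective.moduleIsTorsionFree (b.equivFun.toLinearMap.comp g)
    (b.equivFun.injective.comp hinj) (fun a m => map_smul _ a m)

/-- A nonzero ideal has rank one. -/
theorem finrank_stalk_idealMod {I : X.IdealSheafData} (hI : I ≠ ⊥) :
    Module.finrank (X.presheaf.stalk (genericPoint X)) ((ClSub.idealMod I).presheaf.stalk (genericPoint X)) = 1 := by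
  set η := genericPoint X with hη
  obtain ⟨b⟩ := CurveTensor.exists_basis_stalk
    (InvEnd.isFinLocFreeOfRank_one (InvX.isInvertible_structureModule (X := X))) η
  obtain ⟨U, hU, hxU, -⟩ := exists_isAffineOpen_mem_and_subset (x := η) (U := (⊤ : X.Opens)) trivial
  obtain ⟨a, ha, ha0⟩ := Submodule.exists_mem_ne_zero_of_ne_bot (ideal_ne_bot hI ⟨U, hU⟩ ⟨_, hxU⟩)
  obtain ⟨k, rfl⟩ := OmegaLib.exists_of_mem I ⟨U, hU⟩ a ha
  haveI : Mono (ClSub.idealModι I) := inferInstanceAs (Mono (kernel.ι _))
  let g : (ClSub.idealMod I).presheaf.stalk η →ₗ[X.presheaf.stalk η] (Coh.structureModule X).presheaf.stalk η :=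
    ((DerSch.stalkFunctor X η).map (ClSub.idealModι I)).hom
  have hinj : Function.Injective g :=
    (ModuleCat.mono_iff_injective ((DerSch.stalkFunctor X η).map (ClSub.idealModι I))).1 inferInstance
  let h := b.equivFun.toLinearMap.comp g
  have hh : Function.Injective h := b.equivFun.injective.comp hinj
  have hne : h ((ClSub.idealMod I).presheaf.germ U η hxU k) ≠ 0 := by
    intro h0
    have h1 : g ((ClSub.idealMod I).presheaf.germ U η hxU k) = 0 := b.equivFun.injective (h0.trans (map_zero _).symm)
    have h2 : (Coh.structureModule X).presheaf.germ U η hxU ((ClSub.idealModι I).app U k) = 0 :=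
      (VarBase.stalkMap_germ (ClSub.idealModι I) hxU k).symm.trans h1
    obtain ⟨r, hr, hr0⟩ := (QCoh.germ_eq_zero_iff QCoh.isQCoh_structureModule hU hxU _).1 h2
    haveI : Nonempty (U : Scheme.{u}) := ⟨⟨η, hxU⟩⟩
    have hr' : r ≠ 0 := fun h => by
      rw [h, Scheme.basicOpen_zero] at hr
      exact hr
    exact ha0 ((mul_eq_zero.1 (show r * OmegaSh.idealSect I U k = 0 from hr0)).resolve_left hr')
  have hsurj : Function.Surjective h := fun w => by
    let v := h ((ClSub.idealMod I).presheaf.germ U η hxU k)
    have hv : v 0 ≠ 0 := fun h0 => hne (funext fun i => by rw [Subsingleton.elim i 0]; exact h0)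
    obtain ⟨u, hu⟩ := (show IsUnit (show X.functionField from v 0) from Ne.isUnit hv)
    refine ⟨(w 0 * (↑u⁻¹ : X.presheaf.stalk η)) • (ClSub.idealMod I).presheaf.germ U η hxU k, ?_⟩
    refine (map_smul h _ _).trans (funext fun i => ?_)
    rw [Subsingleton.elim i 0]
    show w 0 * (↑u⁻¹ : X.presheaf.stalk η) * v 0 = w 0
    rw [mul_assoc, show (↑u⁻¹ : X.presheaf.stalk η) * v 0 = 1 from (congrArg (fun z : X.presheaf.stalk η => (↑u⁻¹ : X.presheaf.stalk η) * z) hu).symm.trans u.inv_mul, mul_one]
  exact (LinearEquiv.ofBijective h ⟨hh, hsurj⟩).finrank_eq.trans (Module.finrank_fin_fun _)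

theorem idealSect_hom_mul {I : X.IdealSheafData} (f : ClSub.idealMod I ⟶ Coh.structureModule X) (U : X.Opens)
    (a b : Γ(ClSub.idealMod I, U)) :
    (show Γ(X, U) from f.app U a) * OmegaSh.idealSect I U b =
      OmegaSh.idealSect I U a * (show Γ(X, U) from f.app U b) := by
  have h : OmegaSh.idealSect I U b • a = OmegaSh.idealSect I U a • b :=
    OmegaLib.idealSect_injective I U (by rw [OmegaLib.idealSect_smul, OmegaLib.idealSect_smul, mul_comm])
  have h2 := congrArg (f.app U) h
  rw [Scheme.Modules.Hom.app_smul, Scheme.Modules.Hom.app_smul] at h2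
  exact (mul_comm _ _).trans h2

/-- A nonzero morphism from an ideal to the structure sheaf is a monomorphism. -/
theorem mono_of_ne_zero {I : X.IdealSheafData} (f : ClSub.idealMod I ⟶ Coh.structureModule X) (hf : f ≠ 0) :
    Mono f := by
  refine QCoh.mono_of_app_injective _ fun V => ?_
  refine (injective_iff_map_eq_zero _).2 fun k hk => by_contra fun hk0 => hf ?_
  -- `f` kills a nonzero section, hence every section
  have hs : OmegaSh.idealSect I V k ≠ 0 := fun h => hk0 (OmegaLib.idealSect_injective I V (h.trans (map_zero _).symm))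
  haveI : Nonempty (V : Scheme.{u}) := by
    by_contra hV
    exact hs (AModX.eq_of_locally (M := Coh.structureModule X) _ _ fun p hp => (hV ⟨⟨p, hp⟩⟩).elim)
  obtain ⟨⟨v, hv⟩⟩ := ‹Nonempty (V : Scheme.{u})›
  refine QCoh.hom_ext_app fun W m => ?_
  refine AModX.eq_of_locally _ _ fun p hp => ?_
  have hηV : genericPoint X ∈ W ⊓ V :=
    ⟨(genericPoint_specializes p).mem_open W.isOpen hp, (genericPoint_specializes v).mem_open V.isOpen hv⟩
  refine ⟨W, le_rfl, hp, ?_⟩
  congr 1
  haveI : Nonempty ((W ⊓ V : X.Opens) : Scheme.{u}) := ⟨⟨_, hηV⟩⟩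
  haveI : Nonempty (W : Scheme.{u}) := ⟨⟨p, hp⟩⟩
  refine map_injective_of_isIntegral X (homOfLE (inf_le_left : W ⊓ V ≤ W)) ?_
  refine Eq.trans ?_ (map_zero _).symm
  have e := idealSect_hom_mul f (W ⊓ V) (AModX.res (ClSub.idealMod I) inf_le_left m)
    (AModX.res (ClSub.idealMod I) inf_le_right k)
  rw [AModX.app_res, AModX.app_res, hk, map_zero] at e
  have h3 : OmegaSh.idealSect I (W ⊓ V) (AModX.res (ClSub.idealMod I) inf_le_right k) ≠ 0 := fun h => hs
    (map_injective_of_isIntegral X (homOfLE (inf_le_right : W ⊓ V ≤ V))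
      (((OmegaLib.idealSect_map I inf_le_right k).symm.trans h).trans (map_zero _).symm))
  exact (mul_eq_zero.1 (e.trans (mul_zero _))).resolve_right h3

end Groth.Agent.NonPureLib
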