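import Groth.Agent.NonPureLib.FinPart
import Groth.Agent.NonPureLib.RankOne
import Groth.Agent.Refl70.Sheaf
import Groth.Agent.SurfInt.Degrees
import Groth.Agent.AssLib.FlatField
import Mathlib.AlgebraicGeometry.ZariskisMainTheorem

/-!
# Torsion-free sheaves with Hilbert polynomial `P - ℓ` mapping to the structure sheaf are ideals of length `ℓ`
-/

set_option autoImplicit false
set_option linter.style.haveILetI false
set_option linter.unusedSectionVars false
set_option backward.isDefEq.respectTransparency false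
set_option backward.isDefEq.respectTransparency.types false

universe u

open CategoryTheory CategoryTheory.Limits AlgebraicGeometry TopologicalSpace Opposite StabCat Polynomial

noncomputable section

namespace Groth.Agent.NonPureLib

variable {K : Type u} [Field K] {X : Scheme.{u}} [X.Over (Spec (CommRingCat.of K))] [IsIntegral X]

/-- The generic point is outside a nonzero ideal's zero set. -/
theorem genericPoint_notMem {I : X.IdealSheafData} (hI : I ≠ ⊥) : genericPoint X ∉ (I.support : Set X) := by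
  intro h
  obtain ⟨U, hU, hxU, -⟩ := exists_isAffineOpen_mem_and_subset (x := genericPoint X) (U := (⊤ : X.Opens)) trivial
  obtain ⟨a, ha, ha0⟩ := Submodule.exists_mem_ne_zero_of_ne_bot (ideal_ne_bot hI ⟨U, hU⟩ ⟨_, hxU⟩)
  rw [SetLike.mem_coe, Scheme.IdealSheafData.mem_support_iff_of_mem (U := ⟨U, hU⟩) hxU, X.mem_zeroLocus_iff] at h
  exact h a ha ((QCoh.ne_zero_iff_mem_basicOpen a).1 ha0)

theorem exists_dim [IsProper (X ↘ Spec (CommRingCat.of K))] (hdim : 2 ≤ topologicalKrullDim X) :
    ∃ d : ℕ, 2 ≤ d ∧ topologicalKrullDim X = d := by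
  haveI : CompactSpace X := QuasiCompact.compactSpace_of_compactSpace (X ↘ Spec (CommRingCat.of K))
  obtain ⟨D, hD⟩ := Pic13Lib.exists_dim_le (X ↘ Spec (CommRingCat.of K))
  rcases hh : topologicalKrullDim X with _ | _ | e
  · rw [hh] at hdim; exact absurd hdim (not_le_of_gt (WithBot.bot_lt_coe _))
  · rw [hh] at hD; exact absurd hD (not_le_of_gt (WithBot.coe_lt_coe.2 (ENat.coe_lt_top D)))
  · rw [hh] at hdim
    refine ⟨e, ?_, rfl⟩
    have h : ((2 : ℕ∞) : WithBot ℕ∞) ≤ ((e : ℕ∞) : WithBot ℕ∞) := hdim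
    norm_cast at h

variable [IsProper (X ↘ Spec (CommRingCat.of K))]

theorem exists_ideal_of_hom {L : X.Modules} (hL : CohB1.IsAmple L) (hdim : 2 ≤ topologicalKrullDim X) (ℓ : ℕ)
    (F : X.Modules) (hFc : Coh.IsCoh F) (hFt : TorSh.IsTorsionFree F) (φ : F ⟶ Coh.structureModule X) (hφ : φ ≠ 0)
    {P : ℚ[X]} (hPO : ShStab.IsHilbPoly K X L (Coh.structureModule X) P)
    (hPF : ShStab.IsHilbPoly K X L F (P - Polynomial.C (ℓ : ℚ))) :
    ∃ Z : X.IdealSheafData, Mor2.IsFinLocFreeOfDeg ℓ (Z.subschemeι ≫ (X ↘ Spec (CommRingCat.of K))) ∧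
      Nonempty (F ≅ ClSub.idealMod Z) := by
  haveI := CurveCohLib.isNoetherian_of_proper (k := K) (X := X)
  obtain ⟨d, hd2, hd⟩ := exists_dim (K := K) hdim
  have hO := QCoh.isCoh_structureModule' (X := X)
  have hsupp : ∀ M : X.Modules, topologicalKrullDim ↥(CohB1.support M) ≤ (d : WithBot ℕ∞) := fun M =>
    (topologicalKrullDim_subspace_le _ _).trans hd.le
  have hfin : topologicalKrullDim X ≠ ⊤ := by
    rw [hd]; exact fun h => absurd h (ne_of_lt (WithBot.coe_lt_coe.2 (ENat.coe_lt_top d)))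
  have hK := QCoh.isCoh_kernel hFc hO φ
  obtain ⟨pK, hpK, -, -⟩ := HilbPoly.exists_hilb (k := K) hL.1 hK (hsupp _)
  obtain ⟨hC, -, hpC⟩ := HilbPoly.cokernel_data (k := K) (d := d) hL hK hFc (hsupp _) (kernel.ι φ) hpK hPF
  let j : cokernel (kernel.ι φ) ⟶ Coh.structureModule X := Abelian.factorThruCoimage φ
  have hj : cokernel.π (kernel.ι φ) ≫ j = φ := Abelian.coimage.fac φ
  haveI : Mono j := inferInstanceAs (Mono (Abelian.factorThruCoimage φ))
  obtain ⟨hQ, -, hpQ⟩ := HilbPoly.cokernel_data (k := K) (d := d) hL hC hO (hsupp _) j hpC hPO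
  obtain ⟨Z, e, he⟩ := exists_idealMod_iso hC j
  have hZne : Z ≠ ⊥ := by
    intro hbot
    refine hφ ?_
    have hj0 : j = 0 := by
      rw [← he]
      refine QCoh.hom_ext_app fun U m => AModX.eq_of_locally _ _ fun p hp => ?_
      obtain ⟨W, hW, hpW, hWU⟩ := exists_isAffineOpen_mem_and_subset hp
      refine ⟨W, hWU, hpW, ?_⟩
      have h : OmegaSh.idealSect Z W (e.hom.app W (AModX.res _ hWU m)) ∈ Z.ideal ⟨W, hW⟩ :=
        OmegaLib.idealSect_mem Z ⟨W, hW⟩ _
      have hb : Z.ideal ⟨W, hW⟩ = ⊥ :=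
        (congrArg (fun B : X.IdealSheafData => B.ideal ⟨W, hW⟩) hbot).trans
          (congrFun Scheme.IdealSheafData.ideal_bot _)
      rw [hb, Ideal.mem_bot] at h
      rw [← AModX.app_res, ← AModX.app_res]
      exact h
    rw [← hj, hj0, Limits.comp_zero]
  -- the quotient is the structure sheaf of `Z`
  let eQ : cokernel j ≅ ClSub.quotMod Z :=
    cokernel.mapIso j (ClSub.idealModι Z) e (Iso.refl _) (by rw [Iso.refl_hom, Category.comp_id, he]) ≪≫
      (IsColimit.coconePointUniqueUpToIso (cokernelIsCokernel (ClSub.idealModι Z))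
        (SurfInt.idealSeq_shortExact Z).gIsCokernel)
  have hQZ := HilbPoly.hilb_iso eQ hpQ
  have hQc := ParShLib.isCoh_quotMod Z
  have hcl : IsClosed ((Z.support : Set X)) := Z.support.isClosed
  have hlt : topologicalKrullDim ↥(CohB1.support (ClSub.quotMod Z)) < (d : WithBot ℕ∞) := by
    rw [SurfInt.support_quotMod_eq, ← hd]
    exact H23.TopDim.dim_lt_of_ssubset hfin hcl fun h => genericPoint_notMem hZne (h ▸ Set.mem_univ _)
  have hQα : alpha d (P - (P - C (ℓ : ℚ) - pK)) = 0 := by
    by_cases hz : IsZero (ClSub.quotMod Z)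
    · rw [HilbPoly.isHilbPoly_unique hQZ (HilbPoly.hilb_isZero hz)]
      simp [alpha]
    obtain ⟨e', -, he'⟩ := HilbPoly.exists_dim_eq (k := K) (hsupp _) hz
    have hdeg := (HilbPoly.hilb_props hL.1 hQc he'.le hQZ).1
    rw [he'] at hlt
    have he'' : e' < d := by
      have h : ((e' : ℕ∞) : WithBot ℕ∞) < ((d : ℕ∞) : WithBot ℕ∞) := hlt
      norm_cast at h
    unfold alpha
    rw [Polynomial.coeff_eq_zero_of_natDegree_lt (lt_of_le_of_lt hdeg he''), mul_zero]
  -- the kernel vanishes
  have hK0 : IsZero (kernel φ) := by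
    by_contra hz
    have hαK : alpha d pK = 0 := by
      have h : alpha d (P - (P - C (ℓ : ℚ) - pK)) = alpha d pK := by
        unfold alpha
        rw [show P - (P - C (ℓ : ℚ) - pK) = C (ℓ : ℚ) + pK by ring, Polynomial.coeff_add,
          Polynomial.coeff_C_ne_zero (by omega), zero_add]
      rw [← h, hQα]
    by_cases hgen : genericPoint X ∈ CohB1.support (kernel φ)
    · have huniv : CohB1.support (kernel φ) = Set.univ := by
        refine Set.eq_univ_of_univ_subset ?_
        rw [← genericPoint_closure (α := X)]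
        exact (QCoh.isClosed_support_of_isFT hK.1 hK.2).closure_subset_iff.2 (Set.singleton_subset_iff.2 hgen)
      have hdK : topologicalKrullDim ↥(CohB1.support (kernel φ)) = (d : WithBot ℕ∞) := by
        rw [huniv, ← hd]
        exact IsHomeomorph.topologicalKrullDim_eq _ (Homeomorph.Set.univ X).isHomeomorph
      exact (HilbPoly.alpha_pos hL hK hdK hpK).ne' hαK
    · refine hz (QCoh.isZero_of_app_eq_zero hK.1 fun U m => ?_)
      have hKt : TorSh.IsTorsionFree (kernel φ) := fun x => by
        let g : (kernel φ).presheaf.stalk x →ₗ[X.presheaf.stalk x] F.presheaf.stalk x :=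
          ((DerSch.stalkFunctor X x).map (kernel.ι φ)).hom
        have hinj : Function.Injective g :=
          (ModuleCat.mono_iff_injective ((DerSch.stalkFunctor X x).map (kernel.ι φ))).1 inferInstance
        haveI : Module.IsTorsionFree (X.presheaf.stalk x) (F.presheaf.stalk x) := hFt x
        exact Function.Injective.moduleIsTorsionFree g hinj (map_smul g)
      refine Refl70.eq_zero_of_germ_generic hK.1 hKt m fun hη => ?_
      haveI : Subsingleton ((kernel φ).presheaf.stalk (genericPoint X)) := not_not.1 hgen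
      exact Subsingleton.elim _ _
  have hpK0 : pK = 0 := HilbPoly.isHilbPoly_unique hpK (HilbPoly.hilb_isZero hK0)
  haveI : IsIso (cokernel.π (kernel.ι φ)) := by
    have h0 : kernel.ι φ = 0 := hK0.eq_of_src _ _
    haveI : Mono (cokernel.π (kernel.ι φ)) := by
      haveI : Mono φ := Preadditive.mono_of_isZero_kernel φ hK0
      haveI : Mono (cokernel.π (kernel.ι φ) ≫ j) := hj.symm ▸ inferInstanceAs (Mono φ)
      exact mono_of_mono _ j
    exact isIso_of_mono_of_epi _
  have hZP : ShStab.IsHilbPoly K X L (ClSub.quotMod Z) (C (ℓ : ℚ)) := by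
    convert hQZ using 1
    rw [hpK0]; ring
  -- `Z` is finite
  letI : Z.subscheme.Over (Spec (CommRingCat.of K)) := ⟨Z.subschemeι ≫ (X ↘ Spec (CommRingCat.of K))⟩
  haveI : IsProper (Z.subschemeι ≫ (X ↘ Spec (CommRingCat.of K))) := inferInstance
  haveI : IsProper (Z.subscheme ↘ Spec (CommRingCat.of K)) :=
    inferInstanceAs (IsProper (Z.subschemeι ≫ (X ↘ Spec (CommRingCat.of K))))
  have hdim0 : topologicalKrullDim Z.subscheme ≤ 0 := by
    have hr : Set.range Z.subschemeι = CohB1.support (ClSub.quotMod Z) := by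
      rw [SurfInt.support_quotMod_eq, Scheme.IdealSheafData.range_subschemeι]
    rw [IsHomeomorph.topologicalKrullDim_eq _ Z.subschemeι.isClosedEmbedding.isEmbedding.toHomeomorph.isHomeomorph,
      hr]
    by_cases hz : IsZero (ClSub.quotMod Z)
    · haveI : IsEmpty ↥(CohB1.support (ClSub.quotMod Z)) := ⟨fun x => x.2 (ModuleCat.subsingleton_of_isZero
        ((DerSch.stalkFunctor X x.1).map_isZero hz))⟩
      haveI : DiscreteTopology ↥(CohB1.support (ClSub.quotMod Z)) := ⟨Subsingleton.elim _ _⟩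
      exact topologicalKrullDim_zero_of_discreteTopology _
    obtain ⟨e', -, he'⟩ := HilbPoly.exists_dim_eq (k := K) (hsupp _) hz
    have hα := HilbPoly.alpha_pos hL hQc he' hZP
    rw [he']
    rcases Nat.eq_zero_or_pos e' with h | h
    · rw [h]; rfl
    · unfold alpha at hα
      rw [Polynomial.coeff_C_ne_zero (by omega), mul_zero] at hα
      exact absurd hα (lt_irrefl _)
  haveI : IsNoetherian Z.subscheme := CurveCohLib.isNoetherian_of_proper (k := K)
  obtain ⟨hFin, -⟩ := H23.TopDim.finite_discrete_of_dim_le_zero (X := Z.subscheme) hdim0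
  haveI := hFin
  haveI : LocallyQuasiFinite (Z.subschemeι ≫ (X ↘ Spec (CommRingCat.of K))) :=
    LocallyQuasiFinite.of_finite_preimage_singleton _ fun _ => Set.toFinite _
  haveI : IsFinite (Z.subschemeι ≫ (X ↘ Spec (CommRingCat.of K))) := IsFinite.of_isProper_of_locallyQuasiFinite _
  haveI : Flat (Z.subschemeι ≫ (X ↘ Spec (CommRingCat.of K))) := AssLib.flat_over_field _
  haveI : LocallyOfFinitePresentation (Z.subschemeι ≫ (X ↘ Spec (CommRingCat.of K))) :=
    LocallyOfFinitePresentation.iff_locallyOfFiniteType.2 inferInstance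
  have hconst : ∀ y, (Z.subschemeι ≫ (X ↘ Spec (CommRingCat.of K))).finrank y =
      (Z.subschemeι ≫ (X ↘ Spec (CommRingCat.of K))).finrank (IsLocalRing.closedPoint K) := fun y =>
    congrArg _ (Subsingleton.elim _ _)
  refine ⟨Z, ⟨⟨inferInstance, inferInstance, inferInstance⟩, fun y => ?_⟩, ⟨asIso (cokernel.π (kernel.ι φ)) ≪≫ e⟩⟩
  set m := (Z.subschemeι ≫ (X ↘ Spec (CommRingCat.of K))).finrank (IsLocalRing.closedPoint K) with hm
  have hdeg : Mor2.IsFinLocFreeOfDeg m (Z.subscheme ↘ Spec (CommRingCat.of K)) :=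
    ⟨⟨inferInstanceAs (IsFinite (Z.subschemeι ≫ (X ↘ Spec (CommRingCat.of K)))),
      inferInstanceAs (Flat (Z.subschemeι ≫ (X ↘ Spec (CommRingCat.of K)))),
      inferInstanceAs (LocallyOfFinitePresentation (Z.subschemeι ≫ (X ↘ Spec (CommRingCat.of K))))⟩, hconst⟩
  have h := hZP 0
  rw [SurfInt.euler_congr K (show ShStab.twist X L (ClSub.quotMod Z) 0 ≅ ClSub.quotMod Z from
      AmpleVan.twUnit.app (ClSub.quotMod Z)), SurfInt.euler_push K Z.subschemeι rfl QCoh.isQCoh_structureModule,
    euler_structure_of_deg (K := K) (Z := Z.subscheme) hdeg, Polynomial.eval_C] at h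
  rw [hconst y]
  exact_mod_cast h

end Groth.Agent.NonPureLib
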