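import Groth.Agent.NonPureLib.FinSub
import Groth.Agent.Hartogs.Basic
import Groth.Agent.Pic13Lib.DivDim
import Groth.Agent.GrpSchLib.SmoothRegular

/-!
# The ideal of a finite subscheme of a smooth proper variety of dimension at least two determines it
-/

set_option autoImplicit false
set_option linter.style.haveILetI false
set_option linter.unusedSectionVars false
set_option backward.isDefEq.respectTransparency false
set_option backward.isDefEq.respectTransparency.types false

universe u

open CategoryTheory CategoryTheory.Limits AlgebraicGeometry TopologicalSpace Opposite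

noncomputable section

namespace Groth.Agent.NonPureLib

variable {K : Type u} [Field K] {X : Scheme.{u}} [X.Over (Spec (CommRingCat.of K))]
  [IsIntegral X] [Smooth (X ↘ Spec (CommRingCat.of K))] [IsProper (X ↘ Spec (CommRingCat.of K))]

include K in
theorem two_le_depth_of_closed (hdim : 2 ≤ topologicalKrullDim X) {x : X} (hx : IsClosed ({x} : Set X)) :
    (2 : ℕ∞) ≤ LocCoh.depth (X.presheaf.stalk x) (X.presheaf.stalk x) := by
  haveI := GrpSchLib.isRegularLocalRing_stalk_of_smooth (X ↘ Spec (CommRingCat.of K)) x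
  refine Refl70.two_le_depth x ?_
  obtain ⟨d, hd2, hd⟩ := exists_dim (K := K) hdim
  let c := X ↘ Spec (CommRingCat.of K)
  haveI : IsLocallyNoetherian X := LocallyOfFiniteType.isLocallyNoetherian c
  haveI : Subsingleton ↥(Spec (CommRingCat.of K)) := FibDim.subsingleton_spec_field K
  have hdf := CycLib.isDimFun_of_deltaCompat c (CycLib.isSetup_spec_field K) (CycLib.deltaCompat_rd c)
  rw [CycLib.ringKrullDim_stalk_eq hdf x]
  have hη : FibDim.rd c (genericPoint X) = d := by
    have h := FlatDimHx.dim_irreducible K c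
    rw [hd] at h
    exact_mod_cast h.symm
  have hx0 : FibDim.rd c x = 0 := by
    have h := FibDim.topologicalKrullDim_closure c x
    haveI : Subsingleton ↥(closure ({x} : Set X)) := by
      rw [hx.closure_eq]; exact Set.subsingleton_singleton.coe_sort
    have h0 : topologicalKrullDim ↥(closure ({x} : Set X)) ≤ 0 := topologicalKrullDim_zero_of_discreteTopology _
    rw [h] at h0
    have : (FibDim.rd c x : WithBot ℕ∞) ≤ ((0 : ℕ) : WithBot ℕ∞) := h0
    exact_mod_cast Nat.le_zero.1 (by exact_mod_cast this)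
  rw [hη, hx0]
  simp
  exact_mod_cast hd2

variable [GeometricallyIrreducible (X ↘ Spec (CommRingCat.of K))]

/-- A morphism from the ideal of a finite subscheme to the structure sheaf is a scalar. -/
theorem exists_smul_idealModι (hdim : 2 ≤ topologicalKrullDim X) {Z : X.IdealSheafData}
    (hZ : (Z.support : Set X).Finite) (hcl : ∀ x ∈ (Z.support : Set X), IsClosed ({x} : Set X))
    (f : ClSub.idealMod Z ⟶ Coh.structureModule X) : ∃ k : K, f = k • ClSub.idealModι Z := by
  haveI : IsLocallyNoetherian X := LocallyOfFiniteType.isLocallyNoetherian (X ↘ Spec (CommRingCat.of K))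
  let U : X.Opens := ⟨(Z.support : Set X)ᶜ, Z.support.isClosed.isOpen_compl⟩
  have hdep : ∀ x : X, x ∉ U → (2 : ℕ∞) ≤ LocCoh.depth (X.presheaf.stalk x) (X.presheaf.stalk x) := fun x hx =>
    two_le_depth_of_closed (K := K) hdim (hcl x (not_not.1 hx))
  have hpre : Z.subschemeι ⁻¹ᵁ U = ⊥ := bot_unique fun z hz => hz (by
    rw [← Scheme.IdealSheafData.range_subschemeι]
    exact ⟨z, rfl⟩)
  obtain ⟨o, ho⟩ := OmegaLib.exists_idealSect_eq Z U 1 (by
    haveI : Subsingleton Γ(Z.subscheme, Z.subschemeι ⁻¹ᵁ U) := by rw [hpre]; infer_instance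
    exact Subsingleton.elim _ _)
  let c : Γ(X, U) := show Γ(X, U) from f.app U o
  obtain ⟨t, ht⟩ := (Hartogs.restrict_bijective U hdep ⊤).2 (AModX.resR (inf_le_right : (⊤ : X.Opens) ⊓ U ≤ U) c)
  obtain ⟨k, hk⟩ := exists_toGlobal_eq (K := K) t
  refine ⟨k, QCoh.hom_ext_app fun W m => ?_⟩
  rw [KLin.smul_app_apply, hk]
  refine (Hartogs.restrict_bijective U hdep W).1 ?_
  have h1 : W ⊓ U ≤ W := inf_le_left
  have h2 : W ⊓ U ≤ U := inf_le_right
  -- on `W ⊓ U` the section `o` is a frame of the ideal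
  have hm : AModX.res (ClSub.idealMod Z) h1 m =
      OmegaSh.idealSect Z (W ⊓ U) (AModX.res _ h1 m) • AModX.res (ClSub.idealMod Z) h2 o := by
    refine OmegaLib.idealSect_injective Z _ ?_
    rw [OmegaLib.idealSect_smul, show OmegaSh.idealSect Z (W ⊓ U) (AModX.res _ h2 o) = 1 from
      (OmegaLib.idealSect_map Z h2 o).trans ((congrArg _ ho).trans (map_one _)), mul_one]
  show AModX.res (Coh.structureModule X) h1 (f.app W m) = AModX.resR h1
    (AModX.resR (le_top : W ≤ ⊤) t * OmegaSh.idealSect Z W m)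
  rw [← AModX.app_res, hm, Scheme.Modules.Hom.app_smul, map_mul, AModX.resR_resR]
  have e1 : AModX.resR h1 (OmegaSh.idealSect Z W m) = OmegaSh.idealSect Z (W ⊓ U) (AModX.res _ h1 m) :=
    (OmegaLib.idealSect_map Z h1 m).symm
  have e2 : AModX.resR (h1.trans le_top) t = AModX.resR h2 c := by
    have := congrArg (AModX.resR (show W ⊓ U ≤ ⊤ ⊓ U from inf_le_inf_right U le_top)) ht
    exact (AModX.resR_resR _ _ _).symm.trans (this.trans (AModX.resR_resR _ _ _))
  rw [e1, e2, AModX.app_res]
  exact (mul_comm (OmegaSh.idealSect Z (W ⊓ U) (AModX.res (ClSub.idealMod Z) h1 m) : Γ(X, W ⊓ U))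
    (AModX.resR h2 c) : _)

include K in
/-- Isomorphic ideals of finite subschemes are equal. -/
theorem ideal_le_of_iso (hdim : 2 ≤ topologicalKrullDim X) {Z Z' : X.IdealSheafData}
    (hZ : (Z.support : Set X).Finite) (hcl : ∀ x ∈ (Z.support : Set X), IsClosed ({x} : Set X))
    (e : ClSub.idealMod Z ≅ ClSub.idealMod Z') : Z' ≤ Z := by
  obtain ⟨k, hk⟩ := exists_smul_idealModι (K := K) hdim hZ hcl (e.hom ≫ ClSub.idealModι Z')
  intro U a ha
  obtain ⟨m, rfl⟩ := OmegaLib.exists_of_mem Z' U a ha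
  have h := congr($(hk).app U.1 (e.inv.app U.1 m))
  rw [KLin.smul_app_apply] at h
  have h1 : e.hom.app U.1 (e.inv.app U.1 m) = m := congr($(e.inv_hom_id).app U.1 m)
  change (ClSub.idealModι Z').app U.1 (e.hom.app U.1 (e.inv.app U.1 m)) = _ at h
  rw [h1] at h
  rw [show OmegaSh.idealSect Z' U.1 m = _ from h]
  exact Ideal.mul_mem_left _ _ (OmegaLib.idealSect_mem Z U _)

theorem eq_of_iso (hdim : 2 ≤ topologicalKrullDim X) {ℓ : ℕ} {Z Z' : X.IdealSheafData}
    (hZ : Mor2.IsFinLocFreeOfDeg ℓ (Z.subschemeι ≫ (X ↘ Spec (CommRingCat.of K))))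
    (hZ' : Mor2.IsFinLocFreeOfDeg ℓ (Z'.subschemeι ≫ (X ↘ Spec (CommRingCat.of K))))
    (e : ClSub.idealMod Z ≅ ClSub.idealMod Z') : Z = Z' := by
  have key : ∀ W : X.IdealSheafData, Mor2.IsFinLocFreeOfDeg ℓ (W.subschemeι ≫ (X ↘ Spec (CommRingCat.of K))) →
      (W.support : Set X).Finite ∧ ∀ x ∈ (W.support : Set X), IsClosed ({x} : Set X) := by
    intro W hW
    haveI : IsFinite (W.subschemeι ≫ (X ↘ Spec (CommRingCat.of K))) := hW.1.1
    haveI : Finite W.subscheme := Set.finite_univ_iff.1
      ((Scheme.Hom.finite_preimage_singleton (W.subschemeι ≫ (X ↘ Spec (CommRingCat.of K)))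
        (IsLocalRing.closedPoint K)).subset fun z _ =>
          show (W.subschemeι ≫ (X ↘ Spec (CommRingCat.of K))) z = _ from Subsingleton.elim _ _)
    haveI : JacobsonSpace W.subscheme :=
      LocallyOfFiniteType.jacobsonSpace (W.subschemeι ≫ (X ↘ Spec (CommRingCat.of K)))
    rw [← Scheme.IdealSheafData.range_subschemeι]
    refine ⟨Set.finite_range _, ?_⟩
    rintro _ ⟨z, rfl⟩
    rw [← Set.image_singleton]
    exact W.subschemeι.isClosedEmbedding.isClosedMap _ (isClosed_discrete _)
  exact le_antisymm (ideal_le_of_iso (K := K) hdim (key Z' hZ').1 (key Z' hZ').2 e.symm)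
    (ideal_le_of_iso (K := K) hdim (key Z hZ).1 (key Z hZ).2 e)

end Groth.Agent.NonPureLib
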